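import Mathlib
import Groth.Prelude.Def_CycAlg

namespace Groth.Agent.H5.Per

open Module

universe u v

/-- A finite module over a Noetherian ring whose support consists of maximal ideals has finite
length. -/
theorem isFiniteLength_of_support {R : Type u} [CommRing R] [IsNoetherianRing R]
    {M : Type v} [AddCommGroup M] [Module R M] [Module.Finite R M]
    (h : ∀ p ∈ Module.support R M, p.asIdeal.IsMaximal) : IsFiniteLength R M := by
  rw [isFiniteLength_iff_isNoetherian_isArtinian]
  refine ⟨inferInstance, ?_⟩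
  set I := Module.annihilator R M with hI
  letI : Module (R ⧸ I) M := Module.quotientAnnihilator
  haveI : IsScalarTower R (R ⧸ I) M := by
    refine ⟨fun r s m => ?_⟩
    obtain ⟨s, rfl⟩ := Ideal.Quotient.mk_surjective s
    exact (smul_assoc r s m :)
  haveI : Module.Finite (R ⧸ I) M := Module.Finite.of_restrictScalars_finite R (R ⧸ I) M
  haveI : Ring.KrullDimLE 0 (R ⧸ I) := by
    rw [Ring.krullDimLE_zero_iff]
    intro P hP
    have hc : (P.comap (Ideal.Quotient.mk I)).IsPrime := Ideal.comap_isPrime _ _
    have hle : I ≤ P.comap (Ideal.Quotient.mk I) := by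
      intro x hx
      rw [Ideal.mem_comap, Ideal.Quotient.eq_zero_iff_mem.mpr hx]
      exact P.zero_mem
    have hmax := h ⟨_, hc⟩ (Module.mem_support_iff_of_finite.mpr hle)
    have := Ideal.map_eq_top_or_isMaximal_of_surjective (Ideal.Quotient.mk I)
      Ideal.Quotient.mk_surjective hmax
    rw [Ideal.map_comap_of_surjective _ Ideal.Quotient.mk_surjective] at this
    exact this.resolve_left hP.ne_top
  haveI : IsArtinianRing (R ⧸ I) := isArtinianRing_iff_krullDimLE_zero.mpr inferInstance
  haveI : IsArtinian (R ⧸ I) M := inferInstance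
  exact isArtinian_of_surjective_algebraMap (R := R ⧸ I) (S := R) Ideal.Quotient.mk_surjective


/-- Localizing a finite module at a minimal prime of its support gives an Artinian module. -/
theorem isArtinian_localizedModule_of_minimal {R : Type u} [CommRing R] [IsNoetherianRing R]
    {M : Type v} [AddCommGroup M] [Module R M] [Module.Finite R M]
    (p : Ideal R) [p.IsPrime] (hp : p ∈ (Module.annihilator R M).minimalPrimes) :
    IsArtinian (Localization.AtPrime p) (LocalizedModule p.primeCompl M) := by
  have hfl : IsFiniteLength (Localization.AtPrime p) (LocalizedModule p.primeCompl M) := by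
    apply isFiniteLength_of_support
    intro P hP
    have h1 := Module.annihilator_le_of_mem_support hP
    have h2 : Module.annihilator R M ≤ P.asIdeal.comap (algebraMap R (Localization.AtPrime p)) := by
      intro a ha
      rw [Ideal.mem_comap]
      apply h1
      rw [Module.mem_annihilator]
      intro x
      induction x using LocalizedModule.induction_on with
      | h m s =>
        rw [algebraMap_smul, LocalizedModule.smul'_mk, Module.mem_annihilator.mp ha m,
          LocalizedModule.zero_mk]
    have h3 : P.asIdeal.comap (algebraMap R (Localization.AtPrime p)) ≤ p := by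
      have := IsLocalization.AtPrime.under_maximalIdeal (Localization.AtPrime p) p
      calc P.asIdeal.comap (algebraMap R (Localization.AtPrime p))
          ≤ (IsLocalRing.maximalIdeal (Localization.AtPrime p)).comap
              (algebraMap R (Localization.AtPrime p)) :=
            Ideal.comap_mono (IsLocalRing.le_maximalIdeal P.2.ne_top)
        _ = p := this
    have h4 : p ≤ P.asIdeal.comap (algebraMap R (Localization.AtPrime p)) :=
      hp.2 ⟨Ideal.comap_isPrime _ _, h2⟩ h3
    have h5 : P.asIdeal = IsLocalRing.maximalIdeal (Localization.AtPrime p) := by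
      have h6 := IsLocalization.map_under p.primeCompl (Localization.AtPrime p) P.asIdeal
      rw [← h6, Ideal.under, le_antisymm h3 h4, Localization.AtPrime.map_eq_maximalIdeal]
    rw [h5]
    infer_instance
  exact (isFiniteLength_iff_isNoetherian_isArtinian.mp hfl).2

/-- An injective endomorphism of a finite module becomes surjective at the minimal primes of the
support. -/
theorem notMem_support_quotient_range {R : Type u} [CommRing R] [IsNoetherianRing R]
    {M : Type v} [AddCommGroup M] [Module R M] [Module.Finite R M]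
    (θ : M →ₗ[R] M) (hθ : Function.Injective θ)
    (p : PrimeSpectrum R) (hp : p.asIdeal ∈ (Module.annihilator R M).minimalPrimes) :
    p ∉ Module.support R (M ⧸ LinearMap.range θ) := by
  haveI := isArtinian_localizedModule_of_minimal p.asIdeal hp
  have hinj := LocalizedModule.map_injective p.asIdeal.primeCompl θ hθ
  have hsurj := IsArtinian.surjective_of_injective_endomorphism _ hinj
  rw [Module.notMem_support_iff']
  intro n
  obtain ⟨x, rfl⟩ := Submodule.mkQ_surjective _ n
  obtain ⟨y, hy⟩ := hsurj (LocalizedModule.mk x 1)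
  induction y using LocalizedModule.induction_on with
  | h y s =>
    rw [LocalizedModule.map_mk, LocalizedModule.mk_eq] at hy
    obtain ⟨u, hu⟩ := hy
    refine ⟨(u * s : p.asIdeal.primeCompl), (u * s).2, ?_⟩
    rw [Submodule.mkQ_apply, ← Submodule.Quotient.mk_smul, Submodule.Quotient.mk_eq_zero]
    refine ⟨(u : R) • y, ?_⟩
    simp only [one_smul] at hu
    rw [map_smul]
    simpa [mul_smul, Submonoid.smul_def] using hu


/-- For an injective endomorphism `θ` of a finite module of dimension at most one over a Noetherian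
local ring, the cokernel of `θ` has finite length. -/
theorem isFiniteLength_quotient_range {A : Type u} [CommRing A] [IsNoetherianRing A] [IsLocalRing A]
    {M : Type v} [AddCommGroup M] [Module A M] [Module.Finite A M]
    (hdim : Module.supportDim A M ≤ 1) (θ : M →ₗ[A] M) (hθ : Function.Injective θ) :
    IsFiniteLength A (M ⧸ LinearMap.range θ) := by
  apply isFiniteLength_of_support
  intro p hp
  by_contra hmax
  have hpM : p ∈ Module.support A M :=
    Module.support_subset_of_surjective _ (Submodule.mkQ_surjective _) hp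
  have hle : Module.annihilator A M ≤ p.asIdeal := Module.mem_support_iff_of_finite.mp hpM
  obtain ⟨q, hq, hqp⟩ := Ideal.exists_minimalPrimes_le hle
  rcases eq_or_lt_of_le hqp with h | h
  · subst h
    exact notMem_support_quotient_range θ hθ p hq hp
  · let m : PrimeSpectrum A := ⟨IsLocalRing.maximalIdeal A, inferInstance⟩
    have hpm : p < m := by
      refine lt_of_le_of_ne (IsLocalRing.le_maximalIdeal p.2.ne_top) ?_
      intro h
      apply hmax
      rw [h]
      exact IsLocalRing.maximalIdeal.isMaximal A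
    let q' : PrimeSpectrum A := ⟨q, hq.1.1⟩
    have hq'M : q' ∈ Module.support A M := Module.mem_support_iff_of_finite.mpr hq.1.2
    have hmM : m ∈ Module.support A M := Module.mem_support_mono hpm.le hpM
    let a : Module.support A M := ⟨q', hq'M⟩
    let b : Module.support A M := ⟨p, hpM⟩
    let c : Module.support A M := ⟨m, hmM⟩
    have hab : a < b := h
    have hbc : b < c := hpm
    let S : LTSeries (Module.support A M) :=
      ((RelSeries.singleton _ a).snoc b hab).snoc c (by simpa using hbc)
    have hS : S.length = 2 := by simp [S]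
    have := Order.LTSeries.length_le_krullDim S
    rw [hS] at this
    have h2 : ((2 : ℕ) : WithBot ℕ∞) ≤ 1 := this.trans hdim
    exact absurd h2 (by norm_cast)


theorem aux6476 {A : Type u} [CommRing A] [IsNoetherianRing A] [IsLocalRing A] {M : Type v}
    [AddCommGroup M] [Module A M] [Module.Finite A M] (hdim : Module.supportDim A M = 1)
    (φ ψ : M →ₗ[A] M) (hφ : Function.Injective φ) (hψ : Function.Injective ψ)
    (K : Submodule A M) (hK : K = LinearMap.range (φ ∘ₗ ψ)) (hK2 : K = LinearMap.range (ψ ∘ₗ φ))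
    (φ' ψ' : (M ⧸ K) →ₗ[A] (M ⧸ K))
    (hφ' : φ' ∘ₗ K.mkQ = K.mkQ ∘ₗ φ)
    (hψ' : ψ' ∘ₗ K.mkQ = K.mkQ ∘ₗ ψ) :
    Module.length A (M ⧸ K) < ⊤ ∧ CycAlg.IsPeriodic φ' ψ' ∧
      Subsingleton (CycAlg.perH φ' ψ') ∧ Subsingleton (CycAlg.perH ψ' φ') := by
  have e1 : ∀ x, φ' (K.mkQ x) = K.mkQ (φ x) := fun x => LinearMap.congr_fun hφ' x
  have e2 : ∀ x, ψ' (K.mkQ x) = K.mkQ (ψ x) := fun x => LinearMap.congr_fun hψ' x
  have z1 : ∀ x, K.mkQ (φ (ψ x)) = 0 := fun x => by
    rw [Submodule.mkQ_apply, Submodule.Quotient.mk_eq_zero, hK]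
    exact ⟨x, rfl⟩
  have z2 : ∀ x, K.mkQ (ψ (φ x)) = 0 := fun x => by
    rw [Submodule.mkQ_apply, Submodule.Quotient.mk_eq_zero, hK2]
    exact ⟨x, rfl⟩
  refine ⟨?_, ⟨?_, ?_⟩, ?_, ?_⟩
  · rw [lt_top_iff_ne_top, Module.length_ne_top_iff]
    subst hK
    exact isFiniteLength_quotient_range hdim.le (φ ∘ₗ ψ) (hφ.comp hψ)
  · refine LinearMap.ext fun y => ?_
    obtain ⟨x, rfl⟩ := K.mkQ_surjective y
    rw [LinearMap.comp_apply, e2, e1, z1, LinearMap.zero_apply]
  · refine LinearMap.ext fun y => ?_
    obtain ⟨x, rfl⟩ := K.mkQ_surjective y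
    rw [LinearMap.comp_apply, e1, e2, z2, LinearMap.zero_apply]
  · rw [Submodule.Quotient.subsingleton_iff, Submodule.submoduleOf_eq_top]
    intro y hy
    obtain ⟨x, rfl⟩ := K.mkQ_surjective y
    rw [LinearMap.mem_ker, e1, Submodule.mkQ_apply, Submodule.Quotient.mk_eq_zero, hK] at hy
    obtain ⟨z, hz⟩ := hy
    have : x = ψ z := (hφ hz).symm
    exact ⟨K.mkQ z, by rw [e2, this]⟩
  · rw [Submodule.Quotient.subsingleton_iff, Submodule.submoduleOf_eq_top]
    intro y hy
    obtain ⟨x, rfl⟩ := K.mkQ_surjective y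
    rw [LinearMap.mem_ker, e2, Submodule.mkQ_apply, Submodule.Quotient.mk_eq_zero, hK2] at hy
    obtain ⟨z, hz⟩ := hy
    have : x = φ z := (hψ hz).symm
    exact ⟨K.mkQ z, by rw [e1, this]⟩

theorem main6476 {A : Type u} [CommRing A] [IsNoetherianRing A] [IsLocalRing A] {M : Type v}
    [AddCommGroup M] [Module A M] [Module.Finite A M] (hdim : Module.supportDim A M = 1)
    (φ ψ : M →ₗ[A] M) (hφ : Function.Injective φ) (hψ : Function.Injective ψ)
    (hcomm : Submodule.map φ (LinearMap.range ψ) = Submodule.map ψ (LinearMap.range φ))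
    (φ' ψ' : (M ⧸ LinearMap.range (φ ∘ₗ ψ)) →ₗ[A] (M ⧸ LinearMap.range (φ ∘ₗ ψ)))
    (hφ' : φ' ∘ₗ (LinearMap.range (φ ∘ₗ ψ)).mkQ = (LinearMap.range (φ ∘ₗ ψ)).mkQ ∘ₗ φ)
    (hψ' : ψ' ∘ₗ (LinearMap.range (φ ∘ₗ ψ)).mkQ = (LinearMap.range (φ ∘ₗ ψ)).mkQ ∘ₗ ψ) :
    Module.length A (M ⧸ LinearMap.range (φ ∘ₗ ψ)) < ⊤ ∧ CycAlg.IsPeriodic φ' ψ' ∧
      Subsingleton (CycAlg.perH φ' ψ') ∧ Subsingleton (CycAlg.perH ψ' φ') :=
  aux6476 hdim φ ψ hφ hψ _ rfl
    (by rw [LinearMap.range_comp, LinearMap.range_comp, hcomm]) φ' ψ' hφ' hψ'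

end Groth.Agent.H5.Per
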